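import Cfsg.Agent.S2082
import Cfsg.Agent.H845.HNSeven
import Cfsg.Agent.H845.HNNineteen
import Cfsg.Agent.H904.HSIso
import Cfsg.Agent.H173.RS.HN
import Cfsg.Agent.KFacts.HN.Sheet
import Cfsg.Agent.H748.SK.HNEleven
import Cfsg.Agent.HN.DCoverData
import Cfsg.Agent.FastGrp
import Cfsg.Agent.Prune
set_option linter.all false
prune_inst 0x7f00000000000000000000000000000000000000000000000000000000000000000000000000000000000000000000000000000000000000000000000000000000000000000000000000000000000000003fffffffffffffffffffffffffffbeffbdffffffff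
open scoped Cfsg.Agent.FastGrp

-- part: H748/SK/HNTwist
section
/-!
# The Harada–Norton group: facts for the Sidki row (helper748, S3010)

* `exists_twist`: the outer automorphism `α`: trivial on `2.HS`, `α t = t²`, `α² = conj (ψ τ)`;
* `exists_mul`: every outer automorphism is `conj c * α`.
-/

set_option autoImplicit false

namespace Cfsg.Agent.H748.SK.HNRow

open Subgroup
open Cfsg.Agent.HN Cfsg.Agent.HN.Pres Cfsg.Agent.HN.P1408 Cfsg.Agent.HN.H0Basic
open Cfsg.Agent.HN.HS100 (K)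
open Cfsg.Agent.KFacts.HN (emb finite_HN)
open Cfsg.Agent.H997.OutHN

/-- the involution of the class 2A -/
noncomputable def z : Cfsg.Spor.HN := NormalH.ψ τ

theorem z_eq : z = Pres.hx ^ 2 := ψ_τ

theorem zz : z * z = 1 := by rw [z, ← map_mul, τ_mul_τ, map_one]

theorem z_ne : z ≠ 1 := emb.t_ne

theorem z_inv : z⁻¹ = z := inv_eq_of_mul_eq_one_left zz

theorem z_comm (h : H0) : NormalH.ψ h * z = z * NormalH.ψ h := by
  rw [z, ← map_mul, ← map_mul, τ_comm]

/-- `z` inverts `t` -/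
theorem z_ht : z * Pres.ht * z⁻¹ = Pres.ht⁻¹ := by
  have hx1 : Pres.hx⁻¹ * Pres.ht * Pres.hx = (Pres.ht ^ 2)⁻¹ := mul_eq_one_iff_eq_inv.1 rel_tx
  have hx2 : (Pres.hx ^ 2)⁻¹ * Pres.ht * Pres.hx ^ 2 = Pres.ht ^ 4 := by
    calc (Pres.hx ^ 2)⁻¹ * Pres.ht * Pres.hx ^ 2 = Pres.hx⁻¹ * (Pres.hx⁻¹ * Pres.ht * Pres.hx) * Pres.hx := by
          rw [pow_two]; group
      _ = Pres.hx⁻¹ * (Pres.ht ^ 2)⁻¹ * Pres.hx := by rw [hx1]
      _ = ((Pres.hx⁻¹ * Pres.ht * Pres.hx) ^ 2)⁻¹ := by rw [pow_two, pow_two]; group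
      _ = (((Pres.ht ^ 2)⁻¹) ^ 2)⁻¹ := by rw [hx1]
      _ = Pres.ht ^ 4 := by group
  have h4 : Pres.ht ^ 4 = Pres.ht⁻¹ := by
    rw [eq_inv_iff_mul_eq_one, ← pow_succ]; exact rel_t5
  rw [← h4, ← hx2, ← z_eq, z_inv]

theorem ht_ne : Pres.ht ≠ 1 := by
  intro h
  have h1 := rel_zt
  -- `(z x² t²)³ = 1` with `t = 1` gives `(hz hx²)³ = 1`
  rw [h, one_pow, mul_one, ← ψ_τ, ← NormalH.ψ_gz, ← map_mul, ← map_pow] at h1
  have h2 : (gz * τ) ^ 3 = 1 := emb.inj (h1.trans (map_one _).symm)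
  have h3 : gz * gz = 1 := by rw [← pow_two]; exact rels_H0.r7
  have h4 : (gz * τ) ^ 2 = 1 := by
    rw [pow_two]
    calc gz * τ * (gz * τ) = gz * (τ * gz) * τ := by group
      _ = gz * (gz * τ) * τ := by rw [τ_comm gz]
      _ = gz * gz * (τ * τ) := by group
      _ = 1 := by rw [h3, τ_mul_τ, mul_one]
  have h5 : gz * τ = 1 := by
    rw [pow_succ, h4, one_mul] at h2
    exact h2
  have h6 : gz ∈ K := by
    rw [mul_eq_one_iff_eq_inv.1 h5]
    exact inv_mem τ_mem_K
  exact HS100.gz_not_mem h6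

theorem orderOf_ht : orderOf Pres.ht = 5 := by
  have : Fact (Nat.Prime 5) := ⟨Nat.prime_five⟩
  exact orderOf_eq_prime rel_t5 ht_ne

/-- **The outer automorphism.** -/
theorem exists_twist : ∃ α : MulAut Cfsg.Spor.HN, (∀ g : Cfsg.Spor.HN, α ≠ MulAut.conj g) ∧
    (∀ k ∈ K, α (NormalH.ψ k) = NormalH.ψ k) ∧ α Pres.ht = Pres.ht ^ 2 ∧ α * α = MulAut.conj z := by
  have hs := simple'
  have hfin := KFacts.HN.finite_HN
  obtain ⟨θ, hx, hy, hz, ht⟩ := exists_end
  have hx2 : Pres.hx ^ 2 ≠ 1 := by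
    rw [← ψ_τ]
    intro h
    exact KFacts.HN.emb.ne (KFacts.HN.emb.inj (h.trans (map_one _).symm))
  have hinj : Function.Injective θ := by
    rw [← MonoidHom.ker_eq_bot_iff]
    rcases IsSimpleGroup.eq_bot_or_eq_top_of_normal θ.ker inferInstance with h | h
    · exact h
    · exfalso
      have h1 : Pres.hx ∈ θ.ker := by rw [h]; exact Subgroup.mem_top _
      rw [MonoidHom.mem_ker, hx] at h1
      exact hx2 (by rw [h1, one_pow])
  have hcomp : θ.comp NormalH.ψ = NormalH.ψ.comp twist := by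
    refine MonoidHom.eq_of_eqOn_dense closure_gens ?_
    rintro h (rfl | rfl | rfl)
    · rw [MonoidHom.comp_apply, MonoidHom.comp_apply, twist_gx, NormalH.ψ_gx, hx]
    · rw [MonoidHom.comp_apply, MonoidHom.comp_apply, twist_gy, NormalH.ψ_gy, hy]
    · rw [MonoidHom.comp_apply, MonoidHom.comp_apply, twist_gz, map_mul, NormalH.ψ_gz, ψ_τ, hz]
  have hK' : ∀ k ∈ K, θ (NormalH.ψ k) = NormalH.ψ k := by
    intro k hk
    have h1 := congrArg (fun f : H0 →* Cfsg.Spor.HN => f k) hcomp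
    simp only [MonoidHom.comp_apply] at h1
    rw [h1, twist_of_mem hk]
  refine ⟨MulEquiv.ofBijective θ (Finite.injective_iff_bijective.1 hinj), ?_, hK', ht, ?_⟩
  · intro g hg
    have happ : ∀ u : Cfsg.Spor.HN, θ u = g * u * g⁻¹ := fun u =>
      congrArg (fun β : MulAut Cfsg.Spor.HN => β u) hg
    have hc : ∀ u : Cfsg.Spor.HN, θ u = u → g * u = u * g := by
      intro u hu
      rw [happ] at hu
      exact mul_inv_eq_iff_eq_mul.1 hu
    have hgτ : g * NormalH.ψ τ = NormalH.ψ τ * g := by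
      apply hc
      rw [ψ_τ, map_pow, hx]
    obtain ⟨h, rfl⟩ := KFacts.HN.emb.cent g hgτ
    have hK : ∀ k ∈ K, h * k = k * h := by
      intro k hk
      apply KFacts.HN.emb.inj
      rw [map_mul, map_mul]
      apply hc
      exact hK' k hk
    have hz' : θ Pres.hz = Pres.hz := by
      rw [happ, mul_inv_eq_iff_eq_mul, ← NormalH.ψ_gz, ← map_mul, ← map_mul]
      rcases StepFive.eq_of_comm_K hK with rfl | rfl
      · rw [one_mul, mul_one]
      · rw [τ_comm]
    rw [hz] at hz'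
    exact hx2 (mul_eq_left.1 hz')
  · have h1 : θ.comp θ = (MulAut.conj z).toMonoidHom := by
      apply PresentedGroup.ext
      intro g
      have hxx : ∀ u : H0, θ (θ (NormalH.ψ u)) = z * NormalH.ψ u * z⁻¹ := by
        intro u
        rw [mul_inv_eq_iff_eq_mul.2 (z_comm u).symm]
        have h2 := congrArg (fun f : H0 →* Cfsg.Spor.HN => f u) hcomp
        have h3 := congrArg (fun f : H0 →* Cfsg.Spor.HN => f (twist u)) hcomp
        simp only [MonoidHom.comp_apply] at h2 h3
        rw [h2, h3]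
        congr 1
        by_cases hu : u ∈ K
        · rw [twist_of_mem hu, twist_of_mem hu]
        · have hu' : u * τ ∉ K := fun h => hu ((Subgroup.mul_mem_cancel_right K τ_mem_K).1 h)
          rw [twist_of_not hu, twist_of_not hu', mul_assoc, τ_mul_τ, mul_one]
      cases g with
      | x => 
        have := hxx gx
        rw [NormalH.ψ_gx] at this
        exact this
      | y =>
        have := hxx gy
        rw [NormalH.ψ_gy] at this
        exact this
      | z =>
        have := hxx gz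
        rw [NormalH.ψ_gz] at this
        exact this
      | t =>
        show θ (θ Pres.ht) = z * Pres.ht * z⁻¹
        rw [z_ht, ht, map_pow, ht, ← pow_mul, eq_inv_iff_mul_eq_one, ← pow_succ]
        exact rel_t5
    apply MulEquiv.ext
    intro u
    exact congrArg (fun f : Cfsg.Spor.HN →* Cfsg.Spor.HN => f u) h1

/-- **Every outer automorphism is `conj c * α`.** -/
theorem exists_mul {α β : MulAut Cfsg.Spor.HN} (hα : ∀ g : Cfsg.Spor.HN, α ≠ MulAut.conj g)
    (hβ : ∀ g : Cfsg.Spor.HN, β ≠ MulAut.conj g) : ∃ c : Cfsg.Spor.HN, β = MulAut.conj c * α := by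
  set I := (MulAut.conj : Cfsg.Spor.HN →* MulAut Cfsg.Spor.HN).range with hI
  have h1 : α ∉ I := by
    rintro ⟨g, hg⟩
    exact hα g hg.symm
  have h2 : β ∉ I := by
    rintro ⟨g, hg⟩
    exact hβ g hg.symm
  have h3 : I.index = 2 := by
    rcases KFacts.HN.out_index with h | h
    · exfalso
      rw [Subgroup.index_eq_one] at h
      exact h1 (by rw [hI, h]; exact Subgroup.mem_top _)
    · exact h
  have h4 : β * α⁻¹ ∈ I := by
    rw [Subgroup.mul_mem_iff_of_index_two h3]
    exact iff_of_false h2 (fun h => h1 (by simpa using inv_mem h))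
  obtain ⟨c, hc⟩ := h4
  exact ⟨c, by rw [hc]; group⟩

end Cfsg.Agent.H748.SK.HNRow
end

-- part: H748/SK/HNPure
section
/-!
# The Harada–Norton group: facts for the Sidki row (helper748, S3010)
-/

set_option autoImplicit false

namespace Cfsg.Agent.H748.SK.HNRow

open Subgroup
open Cfsg.Agent.HN Cfsg.Agent.HN.Pres Cfsg.Agent.HN.P1408 Cfsg.Agent.HN.H0Basic
open Cfsg.Agent.HN.HS100 (K)
open Cfsg.Agent.KFacts.HN (emb finite_HN)

/-! ### general -/

/-- A `p`-group acting on `R` without fixed points. -/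
theorem card_mod {G : Type*} [Group G] [Finite G] {p : ℕ} [hp : Fact p.Prime] (A R : Subgroup G)
    (hA : IsPGroup p A) (hn : ∀ a ∈ A, ∀ r ∈ R, a * r * a⁻¹ ∈ R)
    (hfix : ∀ r ∈ R, (∀ a ∈ A, a * r = r * a) → r = 1) : Nat.card R % p = 1 := by
  let act : MulAction A R :=
    { smul := fun a r => ⟨a * r * (a : G)⁻¹, hn a a.2 r r.2⟩
      one_smul := fun r => Subtype.ext (by
        show ((1 : A) : G) * r * ((1 : A) : G)⁻¹ = r
        simp)
      mul_smul := fun a b r => Subtype.ext (by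
        show ((a * b : A) : G) * r * ((a * b : A) : G)⁻¹ = a * (b * r * (b : G)⁻¹) * (a : G)⁻¹
        rw [Subgroup.coe_mul]
        group) }
  have h := hA.card_modEq_card_fixedPoints R
  have h1 : Nat.card (MulAction.fixedPoints A R) = 1 := by
    rw [Nat.card_eq_one_iff_unique]
    refine ⟨⟨fun a b => ?_⟩, ⟨⟨1, fun a => Subtype.ext ?_⟩⟩⟩
    · have key : ∀ c : MulAction.fixedPoints A R, (c : R) = 1 := by
        intro c
        apply Subtype.ext
        apply hfix _ c.1.2
        intro a ha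
        have h2 : a * (c.1 : G) * a⁻¹ = c.1 := congrArg Subtype.val (c.2 ⟨a, ha⟩)
        exact mul_inv_eq_iff_eq_mul.1 h2
      exact Subtype.ext ((key a).trans (key b).symm)
    · show (a : G) * ((1 : R) : G) * (a : G)⁻¹ = ((1 : R) : G)
      simp
  rw [h1] at h
  have h2 : Nat.card R % p = 1 % p := h
  rwa [Nat.mod_eq_of_lt hp.out.one_lt] at h2

/-- an involution among the powers of an element of a 2-group -/
theorem exists_inv {G : Type*} [Group G] [Finite G] {R : Subgroup G} (hR : IsPGroup 2 R) {r : G} (hr : r ∈ R)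
    (hr1 : r ≠ 1) : ∃ n : ℕ, orderOf (r ^ n) = 2 := by
  obtain ⟨k, hk⟩ := IsPGroup.iff_orderOf.1 hR ⟨r, hr⟩
  rw [Subgroup.orderOf_mk] at hk
  have hk0 : k ≠ 0 := by
    rintro rfl
    rw [pow_zero, orderOf_eq_one_iff] at hk
    exact hr1 hk
  refine ⟨orderOf r / 2, orderOf_pow_orderOf_div (orderOf_pos r).ne' ?_⟩
  rw [hk]
  exact dvd_pow_self 2 hk0

/-! ### the group `U` of order 126000 -/

theorem card_U : Nat.card U = 126000 := by
  have h1 : Nat.card ΓU = Nat.card U :=
    Nat.card_congr (U.equivMapOfInjective ψ (ψ_injective finite_H0 card_H0_le)).toEquiv.symm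
  have h2 := card_U_ge
  have h3 := card_ge'
  rw [card_Γ finite_H0 card_H0_le, ← U_eq_ps finite_H0 card_H0_le, h1] at h3
  rw [h1] at h2
  have h4 : 1 ≤ Nat.card S3 := Nat.card_pos
  omega

theorem comm_U {u : H0} (hu : u ∈ U) : NormalH.ψ u * Pres.ht = Pres.ht * NormalH.ψ u := DSem.comm_U hu

theorem exists_seven : ∃ f ∈ U, orderOf f = 7 := by
  have hf : Finite H0 := finite_H0
  have : Fact (Nat.Prime 7) := ⟨by norm_num⟩
  obtain ⟨f, hf⟩ := exists_prime_orderOf_dvd_card' (G := U) 7 (by rw [card_U]; norm_num)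
  exact ⟨f, f.2, by rw [Subgroup.orderOf_coe, hf]⟩

theorem exists_five : ∃ P : Subgroup H0, P ≤ U ∧ Nat.card P = 125 := by
  have hf : Finite H0 := finite_H0
  have : Fact (Nat.Prime 5) := ⟨by norm_num⟩
  obtain ⟨P, hP⟩ := Sylow.exists_subgroup_card_pow_prime (G := U) (n := 3) 5 (by rw [card_U]; norm_num)
  refine ⟨P.map U.subtype, Subgroup.map_subtype_le _, ?_⟩
  rw [Subgroup.card_map_of_injective U.subtype_injective, hP]
  norm_num

/-! ### involutions commuting with `t` and large subgroups of `U` -/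

theorem no_inv_seven {r f : Cfsg.Spor.HN} (hr : orderOf r = 2) (hf : orderOf f = 7) (hrf : r * f = f * r)
    (hrt : r * Pres.ht = Pres.ht * r) (hft : f * Pres.ht = Pres.ht * f) : False := by
  have hfin : Finite Cfsg.Spor.HN := finite_HN
  have h1 := H173.RS.HNRow.card_inf_le hr hf hrf
  set C := centralizer ({r} : Set Cfsg.Spor.HN) ⊓ centralizer ({f} : Set Cfsg.Spor.HN) with hC
  have m1 : f ∈ C := mem_inf.2 ⟨mem_centralizer_singleton_iff.2 hrf.symm, mem_centralizer_singleton_iff.2 rfl⟩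
  have m2 : Pres.ht ∈ C := mem_inf.2 ⟨mem_centralizer_singleton_iff.2 hrt.symm,
    mem_centralizer_singleton_iff.2 hft.symm⟩
  have h7 : 7 ∣ Nat.card C := hf ▸ Subgroup.orderOf_dvd_natCard C m1
  have h5 : 5 ∣ Nat.card C := orderOf_ht ▸ Subgroup.orderOf_dvd_natCard C m2
  have h35 : 7 * 5 ∣ Nat.card C := Nat.Coprime.mul_dvd_of_dvd_of_dvd (by norm_num) h7 h5
  have h0 : 0 < Nat.card C := Nat.card_pos
  have := Nat.le_of_dvd h0 h35
  omega

theorem zpow_ht_eq_one {t : Cfsg.Spor.HN} (ht : t ∈ zpowers Pres.ht) (hz : t * z = z * t) : t = 1 := by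
  obtain ⟨n, rfl⟩ := mem_zpowers_iff.1 ht
  have h1 : z * Pres.ht ^ n * z⁻¹ = (Pres.ht ^ n)⁻¹ := by
    rw [← conj_zpow, z_ht, inv_zpow]
  rw [← hz, mul_inv_cancel_right] at h1
  have h2 : (Pres.ht ^ n) ^ 2 = 1 := by
    rw [pow_two]
    nth_rewrite 1 [h1]
    rw [inv_mul_cancel]
  have h3 : orderOf (Pres.ht ^ n) ∣ 2 := orderOf_dvd_of_pow_eq_one h2
  have h4 : orderOf (Pres.ht ^ n) ∣ 5 := by
    apply orderOf_dvd_of_pow_eq_one
    rw [← zpow_natCast, ← zpow_mul, mul_comm, zpow_mul, zpow_natCast, ← orderOf_ht, pow_orderOf_eq_one, one_zpow]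
  have h5 : orderOf (Pres.ht ^ n) ∣ 1 := by
    have := Nat.dvd_gcd h3 h4
    simpa using this
  exact orderOf_eq_one_iff.1 (Nat.dvd_one.1 h5)

theorem no_inv_five {r : Cfsg.Spor.HN} (hr : orderOf r = 2) {P : Subgroup H0} (hP : P ≤ U) (hc : Nat.card P = 125)
    (hcomm : ∀ p ∈ P, NormalH.ψ p * r = r * NormalH.ψ p) (hrt : r * Pres.ht = Pres.ht * r) : False := by
  have hfin : Finite Cfsg.Spor.HN := finite_HN
  let f1 : P →* Cfsg.Spor.HN := NormalH.ψ.comp P.subtype
  let f2 : zpowers Pres.ht →* Cfsg.Spor.HN := (zpowers Pres.ht).subtype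
  have hcm : ∀ (p : P) (t : zpowers Pres.ht), Commute (f1 p) (f2 t) := by
    intro p t
    obtain ⟨n, hn⟩ := mem_zpowers_iff.1 t.2
    have h1 : Commute (NormalH.ψ p) Pres.ht := comm_U (hP p.2)
    show Commute (NormalH.ψ p) (t : Cfsg.Spor.HN)
    rw [← hn]
    exact h1.zpow_right n
  have hinj : Function.Injective (f1.noncommCoprod f2 hcm) := by
    rw [MonoidHom.noncommCoprod_injective]
    refine ⟨emb.inj.comp P.subtype_injective, (zpowers Pres.ht).subtype_injective, ?_⟩
    rw [disjoint_iff, eq_bot_iff]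
    rintro t ⟨⟨p, hp⟩, ⟨s, hs⟩⟩
    rw [mem_bot]
    have hp' : NormalH.ψ p = t := hp
    have hs' : (s : Cfsg.Spor.HN) = t := hs
    apply zpow_ht_eq_one (by rw [← hs']; exact s.2)
    rw [← hp']
    exact z_comm p
  have h1 : Nat.card (f1.noncommCoprod f2 hcm).range = 625 := by
    rw [← Nat.card_congr (MonoidHom.ofInjective hinj).toEquiv, Nat.card_prod, hc, Nat.card_zpowers, orderOf_ht]
  have h2 : (f1.noncommCoprod f2 hcm).range ≤ centralizer ({r} : Set Cfsg.Spor.HN) := by
    rintro _ ⟨⟨p, s⟩, rfl⟩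
    rw [mem_centralizer_singleton_iff]
    obtain ⟨n, hn⟩ := mem_zpowers_iff.1 s.2
    have h3 : Commute (NormalH.ψ p) r := hcomm p p.2
    have h4 : Commute (s : Cfsg.Spor.HN) r := by
      rw [← hn]
      exact (show Commute Pres.ht r from hrt.symm).zpow_left n
    exact h3.mul_left h4
  have h3 := Subgroup.card_dvd_of_le h2
  rw [h1] at h3
  rcases Cfsg.Agent.SigZeroHN.card_centralizer_cases hr with ⟨-, h⟩ | ⟨-, h⟩
  · rw [h] at h3
    revert h3
    decide
  · rw [h] at h3
    revert h3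
    decide

/-- **`O_2(C(z) ∩ C(t)) = 1`.** -/
theorem eq_bot {R : Subgroup Cfsg.Spor.HN} (hR : IsPGroup 2 R) (hz : ∀ r ∈ R, r * z = z * r)
    (ht : ∀ r ∈ R, r * Pres.ht = Pres.ht * r)
    (hn : ∀ u ∈ U, ∀ r ∈ R, NormalH.ψ u * r * (NormalH.ψ u)⁻¹ ∈ R) : R = ⊥ := by
  have hfin : Finite Cfsg.Spor.HN := finite_HN
  obtain ⟨f, hfU, hf⟩ := exists_seven
  obtain ⟨P, hPU, hP⟩ := exists_five
  have hf' : orderOf (NormalH.ψ f) = 7 := by rw [orderOf_injective _ emb.inj, hf]
  have h7 : Nat.card R % 7 = 1 := by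
    have : Fact (Nat.Prime 7) := ⟨by norm_num⟩
    refine card_mod (zpowers (NormalH.ψ f)) R (IsPGroup.of_card (n := 1) (by rw [Nat.card_zpowers, hf', pow_one]))
      ?_ ?_
    · intro a ha r hr
      obtain ⟨n, rfl⟩ := mem_zpowers_iff.1 ha
      rw [← map_zpow]
      exact hn _ (zpow_mem hfU n) r hr
    · intro r hr hc
      by_contra hr1
      obtain ⟨n, hn2⟩ := exists_inv hR hr hr1
      have h1 : Commute r (NormalH.ψ f) := (hc _ (mem_zpowers _)).symm
      have h2 : Commute r Pres.ht := ht r hr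
      exact no_inv_seven hn2 hf' (h1.pow_left n) (h2.pow_left n) (comm_U hfU)
  have h5 : Nat.card R % 5 = 1 := by
    have : Fact (Nat.Prime 5) := ⟨by norm_num⟩
    refine card_mod (P.map NormalH.ψ) R ((IsPGroup.of_card (n := 3) (by rw [hP]; norm_num)).map _) ?_ ?_
    · rintro _ ⟨p, hp, rfl⟩ r hr
      exact hn _ (hPU hp) r hr
    · intro r hr hc
      by_contra hr1
      obtain ⟨n, hn2⟩ := exists_inv hR hr hr1
      have h2 : Commute r Pres.ht := ht r hr
      refine no_inv_five hn2 hPU hP (fun p hp => ?_) (h2.pow_left n)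
      have h1 : Commute (NormalH.ψ p) r := hc _ ⟨p, hp, rfl⟩
      exact h1.pow_right n
  obtain ⟨k, hk⟩ := IsPGroup.iff_card.1 hR
  have h1 : R ≤ centralizer ({z} : Set Cfsg.Spor.HN) := fun r hr => mem_centralizer_singleton_iff.2 (hz r hr)
  have h2 := Subgroup.card_dvd_of_le h1
  have h3 : Nat.card (centralizer ({z} : Set Cfsg.Spor.HN)) = 177408000 := KFacts.HN.Classes.card_centralizer_τ
  rw [h3, hk] at h2
  have hk12 : k < 12 := by
    by_contra hcon
    push Not at hcon
    have h4 : 2 ^ 12 ∣ 177408000 := (pow_dvd_pow 2 hcon).trans h2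
    revert h4
    decide
  rw [hk] at h5 h7
  have hk0 : k = 0 := by
    clear hk h2
    interval_cases k <;> first | rfl | (exfalso; revert h5; decide) | (exfalso; revert h7; decide)
  rw [hk0, pow_zero] at hk
  exact Subgroup.card_eq_one.1 hk

/-! ### elements of order 7 -/

theorem s7_mem : (c[0, 1, 2, 3, 4, 5, 6] : Equiv.Perm (Fin 12)) ∈ alternatingGroup (Fin 12) := by
  rw [Equiv.Perm.mem_alternatingGroup]
  decide +kernel

theorem a0_mem : (c[7, 8] * c[9, 10] : Equiv.Perm (Fin 12)) ∈ alternatingGroup (Fin 12) := by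
  rw [Equiv.Perm.mem_alternatingGroup]
  decide +kernel

theorem b0_mem : (c[7, 9] * c[8, 10] : Equiv.Perm (Fin 12)) ∈ alternatingGroup (Fin 12) := by
  rw [Equiv.Perm.mem_alternatingGroup]
  decide +kernel

/-- two commuting involutions in the centralizer of an element of order 7 -/
theorem exists_klein {x : Cfsg.Spor.HN} (hx : orderOf x = 7) : ∃ a b : Cfsg.Spor.HN, a * a = 1 ∧ b * b = 1 ∧
    a ≠ 1 ∧ b ≠ 1 ∧ a ≠ b ∧ a * b = b * a ∧ a * x = x * a ∧ b * x = x * b := by
  have hfin : Finite Cfsg.Spor.HN := finite_HN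
  have h7 : Fact (Nat.Prime 7) := ⟨by norm_num⟩
  obtain ⟨f, hf⟩ := H173.RS.HNRow.exists_hom
  set s : alternatingGroup (Fin 12) := ⟨_, s7_mem⟩ with hs
  set a : alternatingGroup (Fin 12) := ⟨_, a0_mem⟩ with ha
  set b : alternatingGroup (Fin 12) := ⟨_, b0_mem⟩ with hb
  have e1 : a * a = 1 := Subtype.ext (by decide +kernel)
  have e2 : b * b = 1 := Subtype.ext (by decide +kernel)
  have e3 : a ≠ 1 := fun h => absurd (congrArg Subtype.val h) (by decide +kernel)
  have e4 : b ≠ 1 := fun h => absurd (congrArg Subtype.val h) (by decide +kernel)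
  have e5 : a ≠ b := fun h => absurd (congrArg Subtype.val h) (by decide +kernel)
  have e6 : a * b = b * a := Subtype.ext (by decide +kernel)
  have e7 : a * s = s * a := Subtype.ext (by decide +kernel)
  have e8 : b * s = s * b := Subtype.ext (by decide +kernel)
  have e9 : s ^ 7 = 1 := Subtype.ext (by decide +kernel)
  have e10 : s ≠ 1 := fun h => absurd (congrArg Subtype.val h) (by decide +kernel)
  have hs7 : orderOf (f s) = 7 := by
    rw [orderOf_injective f hf]
    exact orderOf_eq_prime e9 e10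
  have hfac : (Nat.card Cfsg.Spor.HN).factorization 7 = 1 := by
    rw [H173.RS.HNRow.card_HN, show (273030912000000 : ℕ) = 7 ^ 1 * 39004416000000 by norm_num,
      Nat.factorization_mul (by norm_num) (by norm_num),
      Nat.Prime.factorization_pow (by norm_num : Nat.Prime 7), Finsupp.add_apply,
      Nat.factorization_eq_zero_of_not_dvd (show ¬ 7 ∣ 39004416000000 by norm_num), Finsupp.single_eq_same]
  let Q1 : Sylow 7 Cfsg.Spor.HN := Sylow.ofCard (zpowers (f s)) (by rw [Nat.card_zpowers, hs7, hfac, pow_one])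
  let Q2 : Sylow 7 Cfsg.Spor.HN := Sylow.ofCard (zpowers x) (by rw [Nat.card_zpowers, hx, hfac, pow_one])
  obtain ⟨g, hg⟩ := MulAction.exists_smul_eq Cfsg.Spor.HN Q1 Q2
  have h1 : x ∈ (g • Q1 : Sylow 7 Cfsg.Spor.HN) := by
    rw [hg]
    exact mem_zpowers x
  rw [Sylow.smul_def] at h1
  obtain ⟨y, hy, hy'⟩ := h1
  obtain ⟨m, hm⟩ : y ∈ zpowers (f s) := hy
  have hxy : x = g * y * g⁻¹ := hy'.symm
  have hcj : ∀ c, c * s = s * c → (g * f c * g⁻¹) * x = x * (g * f c * g⁻¹) := by
    intro c hc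
    have h2 : Commute (f c) (f s) := by
      show f c * f s = f s * f c
      rw [← map_mul, ← map_mul, hc]
    have h3 : f c * y = y * f c := by
      rw [← hm]
      exact (h2.zpow_right m).eq
    rw [hxy]
    calc g * f c * g⁻¹ * (g * y * g⁻¹) = g * (f c * y) * g⁻¹ := by group
      _ = g * (y * f c) * g⁻¹ := by rw [h3]
      _ = _ := by group
  have hcm : ∀ c c' : alternatingGroup (Fin 12), (g * f c * g⁻¹) * (g * f c' * g⁻¹) = g * f (c * c') * g⁻¹ := by
    intro c c'
    rw [map_mul]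
    group
  have hne : ∀ c c' : alternatingGroup (Fin 12), c ≠ c' → g * f c * g⁻¹ ≠ g * f c' * g⁻¹ := by
    intro c c' hcc h
    exact hcc (hf (mul_left_cancel (mul_right_cancel h)))
  refine ⟨g * f a * g⁻¹, g * f b * g⁻¹, ?_, ?_, ?_, ?_, hne _ _ e5, ?_, hcj a e7, hcj b e8⟩
  · rw [hcm, e1, map_one, mul_one, mul_inv_cancel]
  · rw [hcm, e2, map_one, mul_one, mul_inv_cancel]
  · have := hne _ _ e3
    rwa [map_one, mul_one, mul_inv_cancel] at this
  · have := hne _ _ e4
    rwa [map_one, mul_one, mul_inv_cancel] at this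
  · rw [hcm, hcm, e6]

/-- **No elements of order 28.** -/
theorem no_four_seven {x y : Cfsg.Spor.HN} (hx : orderOf x = 7) (hy : orderOf y = 4) (hxy : y * x = x * y) :
    False := by
  have hfin : Finite Cfsg.Spor.HN := finite_HN
  have h2 : Fact (Nat.Prime 2) := ⟨Nat.prime_two⟩
  set C := centralizer ({x} : Set Cfsg.Spor.HN) with hC
  have hcard : Nat.card C = 420 := by
    have h7 : Fact (Nat.Prime 7) := ⟨by norm_num⟩
    have h1 := H904.SylOne.card_centralizer_eq (p := 7) (P := zpowers x) (Q := zpowers H845.HNSeven.X7)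
      (by rw [Nat.card_zpowers, hx]) (by rw [Nat.card_zpowers, H845.HNSeven.order_X7])
      (by rw [H173.RS.HNRow.card_HN]; norm_num)
    rw [zpowers_eq_closure, centralizer_closure, zpowers_eq_closure, centralizer_closure,
      H845.HNSeven.card_cent] at h1
    exact h1
  have hfac : (Nat.card C).factorization 2 = 2 := by
    rw [hcard, show (420 : ℕ) = 2 ^ 2 * 105 by norm_num,
      Nat.factorization_mul (by norm_num) (by norm_num),
      Nat.Prime.factorization_pow Nat.prime_two, Finsupp.add_apply,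
      Nat.factorization_eq_zero_of_not_dvd (show ¬ 2 ∣ 105 by norm_num), Finsupp.single_eq_same]
  obtain ⟨a, b, h1, h2', h3, h4, h5, h6, h7, h8⟩ := exists_klein hx
  let y' : C := ⟨y, mem_centralizer_singleton_iff.2 hxy⟩
  let a' : C := ⟨a, mem_centralizer_singleton_iff.2 h7⟩
  let b' : C := ⟨b, mem_centralizer_singleton_iff.2 h8⟩
  have hy' : orderOf y' = 4 := by rw [← hy]; exact Subgroup.orderOf_mk y _
  have haa : a' * a' = 1 := Subtype.ext h1
  have hbb : b' * b' = 1 := Subtype.ext h2'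
  have hab : a' * b' = b' * a' := Subtype.ext h6
  have ha1 : a' ≠ 1 := fun h => h3 (congrArg Subtype.val h)
  have hb1 : b' ≠ 1 := fun h => h4 (congrArg Subtype.val h)
  have hab1 : a' ≠ b' := fun h => h5 (congrArg Subtype.val h)
  let Q1 : Sylow 2 C := Sylow.ofCard (zpowers y') (by rw [Nat.card_zpowers, hy', hfac]; norm_num)
  have hpa : IsPGroup 2 (zpowers a') := IsPGroup.of_card (n := 1) (by
    rw [Nat.card_zpowers, pow_one]
    exact orderOf_eq_prime (by rw [pow_two, haa]) ha1)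
  have hpb : IsPGroup 2 (zpowers b') := IsPGroup.of_card (n := 1) (by
    rw [Nat.card_zpowers, pow_one]
    exact orderOf_eq_prime (by rw [pow_two, hbb]) hb1)
  have hle : zpowers a' ≤ normalizer (zpowers b' : Set C) := by
    rw [zpowers_le, mem_normalizer_iff]
    intro w
    have hc : ∀ w : C, a' * w * a'⁻¹ ∈ zpowers b' → w ∈ zpowers b' := by
      rintro w ⟨n, hn⟩
      refine ⟨n, ?_⟩
      have h9 : Commute a' b' := hab
      have h10 : w = a'⁻¹ * (a' * w * a'⁻¹) * a' := by group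
      rw [h10, ← hn]
      have h11 : Commute a' (b' ^ n) := h9.zpow_right n
      show b' ^ n = a'⁻¹ * b' ^ n * a'
      rw [mul_assoc, ← h11.eq, inv_mul_cancel_left]
    refine ⟨?_, hc w⟩
    rintro ⟨n, hn⟩
    refine ⟨n, ?_⟩
    have h9 : Commute a' (b' ^ n) := (show Commute a' b' from hab).zpow_right n
    rw [← hn]
    show b' ^ n = a' * b' ^ n * a'⁻¹
    rw [h9.eq, mul_inv_cancel_right]
  have hE := hpa.to_sup_of_normal_right' hpb hle
  obtain ⟨Q2, hQ2⟩ := hE.exists_le_sylow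
  have hcyc : IsCyclic Q2 := by
    have hc1 : IsCyclic Q1 := by
      show IsCyclic (zpowers y')
      infer_instance
    exact isCyclic_of_surjective (Sylow.equiv Q1 Q2).toMonoidHom (Sylow.equiv Q1 Q2).surjective
  have haQ : a' ∈ (Q2 : Subgroup C) := hQ2 (mem_sup_left (mem_zpowers a'))
  have hbQ : b' ∈ (Q2 : Subgroup C) := hQ2 (mem_sup_right (mem_zpowers b'))
  classical
  have : Fintype Q2 := Fintype.ofFinite _
  have h9 : (Finset.univ.filter fun w : Q2 => w ^ 2 = 1).card ≤ 2 := by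
    convert IsCyclic.card_pow_eq_one_le (α := Q2) (n := 2) (by norm_num)
  have h10 : ({1, ⟨a', haQ⟩, ⟨b', hbQ⟩} : Finset Q2) ⊆ Finset.univ.filter fun w : Q2 => w ^ 2 = 1 := by
    intro w hw
    rw [Finset.mem_insert, Finset.mem_insert, Finset.mem_singleton] at hw
    rw [Finset.mem_filter]
    refine ⟨Finset.mem_univ _, ?_⟩
    rcases hw with rfl | rfl | rfl
    · exact one_pow 2
    · exact Subtype.ext (by rw [pow_two]; exact haa)
    · exact Subtype.ext (by rw [pow_two]; exact hbb)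
  have h11 := Finset.card_le_card h10
  have h12 : ({1, ⟨a', haQ⟩, ⟨b', hbQ⟩} : Finset Q2).card = 3 := by
    rw [Finset.card_eq_three]
    refine ⟨_, _, _, ?_, ?_, ?_, rfl⟩
    · intro h; exact ha1 (congrArg Subtype.val h).symm
    · intro h; exact hb1 (congrArg Subtype.val h).symm
    · intro h; exact hab1 (congrArg Subtype.val h)
  omega

/-- No outer automorphism fixes `t` and an element of order 7 commuting with `t`. -/
theorem no_outer {β : MulAut Cfsg.Spor.HN} (hβ : ∀ g : Cfsg.Spor.HN, β ≠ MulAut.conj g)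
    (hβt : β Pres.ht = Pres.ht) {f : H0} (hf : orderOf f = 7) (hβf : β (NormalH.ψ f) = NormalH.ψ f) : False := by
  have hfin : Finite Cfsg.Spor.HN := finite_HN
  obtain ⟨α, hα, hαK, hαt, -⟩ := exists_twist
  obtain ⟨c, rfl⟩ := exists_mul hα hβ
  have hfK : f ∈ K := by
    have h1 : f = (f ^ 4) ^ 2 := by
      rw [← pow_mul, show 4 * 2 = 1 + 7 by norm_num, pow_add, ← hf, pow_orderOf_eq_one, mul_one, pow_one]
    rw [h1]
    exact sq_mem_K _
  have hcf : c * NormalH.ψ f = NormalH.ψ f * c := by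
    have h1 : c * α (NormalH.ψ f) * c⁻¹ = NormalH.ψ f := hβf
    rw [hαK f hfK] at h1
    exact mul_inv_eq_iff_eq_mul.1 h1
  have hct : c * Pres.ht ^ 2 * c⁻¹ = Pres.ht := by
    have h1 : c * α Pres.ht * c⁻¹ = Pres.ht := hβt
    rwa [hαt] at h1
  have h5 : Pres.ht ^ 5 = 1 := H997.OutHN.rel_t5
  have hc3 : c * Pres.ht * c⁻¹ = Pres.ht ^ 3 := by
    have h1 : Pres.ht = (Pres.ht ^ 2) ^ 3 := by
      rw [← pow_mul, show 2 * 3 = 1 + 5 by norm_num, pow_add, h5, mul_one, pow_one]
    nth_rewrite 1 [h1]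
    rw [← conj_pow, hct]
  have hcn : ∀ n : ℕ, c ^ n * Pres.ht * (c ^ n)⁻¹ = Pres.ht ^ 3 ^ n := by
    intro n
    induction n with
    | zero => simp
    | succ n ih =>
      have e : c ^ (n + 1) * Pres.ht * (c ^ (n + 1))⁻¹ = c * (c ^ n * Pres.ht * (c ^ n)⁻¹) * c⁻¹ := by
        rw [pow_succ']
        group
      rw [e, ih, ← conj_pow, hc3, ← pow_mul, ← pow_succ']
  have h4 : 4 ∣ orderOf c := by
    have h1 := hcn (orderOf c)
    rw [pow_orderOf_eq_one, one_mul, inv_one, mul_one] at h1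
    have h2 : Pres.ht ^ 1 = Pres.ht ^ 3 ^ orderOf c := by rw [pow_one]; exact h1
    rw [pow_eq_pow_iff_modEq, orderOf_ht] at h2
    have h3 : 1 % 5 = 3 ^ orderOf c % 5 := h2
    have h6 : ∀ n : ℕ, 3 ^ n % 5 = 3 ^ (n % 4) % 5 := by
      intro n
      conv_lhs => rw [← Nat.div_add_mod n 4, pow_add, pow_mul]
      rw [Nat.mul_mod, Nat.pow_mod]
      norm_num
    rw [h6] at h3
    have h7 : orderOf c % 4 < 4 := Nat.mod_lt _ (by norm_num)
    rw [Nat.dvd_iff_mod_eq_zero]
    generalize orderOf c % 4 = r at h3 h7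
    interval_cases r <;> first | rfl | (exfalso; revert h3; decide)
  have h6 : orderOf (c ^ (orderOf c / 4)) = 4 := orderOf_pow_orderOf_div (orderOf_pos c).ne' h4
  refine no_four_seven (x := NormalH.ψ f) (by rw [orderOf_injective _ emb.inj, hf]) h6 ?_
  exact (show Commute c (NormalH.ψ f) from hcf).pow_left _

/-! ### elements of order 11 -/

theorem eq_one_of_central {g : Cfsg.Spor.HN} (hg : ∀ u, g * u = u * g) : g = 1 := by
  have hs : IsSimpleGroup Cfsg.Spor.HN := H997.OutHN.simple'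
  have h1 : g ∈ center Cfsg.Spor.HN := mem_center_iff.2 fun u => (hg u).symm
  rcases (inferInstance : (center Cfsg.Spor.HN).Normal).eq_bot_or_eq_top with h | h
  · rwa [h, mem_bot] at h1
  · exfalso
    have h2 : z ∈ center Cfsg.Spor.HN := h ▸ mem_top z
    have h3 : Pres.ht * z = z * Pres.ht := mem_center_iff.1 h2 _
    exact ht_ne (zpow_ht_eq_one (mem_zpowers _) h3)

/-- No outer involution commutes with an element of order 11. -/
theorem no_outer_eleven {β : MulAut Cfsg.Spor.HN} (hβ : ∀ g : Cfsg.Spor.HN, β ≠ MulAut.conj g)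
    (hββ : β * β = 1) {y : H0} (hy : orderOf y = 11) (hβy : β (NormalH.ψ y) = NormalH.ψ y) : False := by
  have hfin : Finite Cfsg.Spor.HN := finite_HN
  obtain ⟨α, hα, hαK, -, hαα⟩ := exists_twist
  obtain ⟨c, rfl⟩ := exists_mul hα hβ
  have hyK : y ∈ K := by
    have h1 : y = (y ^ 6) ^ 2 := by
      rw [← pow_mul, show 6 * 2 = 1 + 11 by norm_num, pow_add, ← hy, pow_orderOf_eq_one, mul_one, pow_one]
    rw [h1]
    exact sq_mem_K _
  have hcy : c * NormalH.ψ y = NormalH.ψ y * c := by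
    have h1 : c * α (NormalH.ψ y) * c⁻¹ = NormalH.ψ y := hβy
    rw [hαK y hyK] at h1
    exact mul_inv_eq_iff_eq_mul.1 h1
  have hαcy : α c * NormalH.ψ y = NormalH.ψ y * α c := by
    rw [← hαK y hyK, ← map_mul, hcy, map_mul]
  have h1 : c * α c * z = 1 := by
    apply eq_one_of_central
    intro u
    have h2 : c * α (c * α u * c⁻¹) * c⁻¹ = u := DFunLike.congr_fun hββ u
    have h3 : α (α u) = z * u * z⁻¹ := DFunLike.congr_fun hαα u
    rw [map_mul, map_mul, map_inv, h3] at h2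
    have h4 : c * (α c * (z * u * z⁻¹) * (α c)⁻¹) * c⁻¹ = (c * α c * z) * u * (c * α c * z)⁻¹ := by group
    rw [h4] at h2
    exact mul_inv_eq_iff_eq_mul.1 h2
  set C := centralizer ({NormalH.ψ y} : Set Cfsg.Spor.HN) with hC
  have m1 : c ∈ C := mem_centralizer_singleton_iff.2 hcy
  have m2 : α c ∈ C := mem_centralizer_singleton_iff.2 hαcy
  have m3 : z ∈ C := mem_centralizer_singleton_iff.2 (z_comm y).symm
  refine parity (cent_eleven hy) (z := (⟨z, m3⟩ : C)) (c := ⟨c, m1⟩) (c' := ⟨α c, m2⟩) ?_ ?_ (Subtype.ext h1)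
  · rw [orderOf_mk]
    exact orderOf_eq_prime (by rw [pow_two, zz]) z_ne
  · rw [orderOf_mk, orderOf_mk]
    exact (orderOf_injective α.toMonoidHom α.injective c).symm

/-- the word `u` -/
def uw : List ℕ := [2, 0, 3, 0, 3, 3]

/-- the word of `d` -/
def dw : List ℕ := [1, 3, 1, 2, 1, 4, 3, 4, 2, 4]

/-- the element of order 11 -/
noncomputable def y0 : H0 := Syl.d * (hw uw * Syl.d * (hw uw)⁻¹)

theorem d_eq : Syl.d = hw dw := rfl

theorem dd : Syl.d * Syl.d = 1 := by
  rw [d_eq, ← hw_append, ← hw_nil]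
  exact hw_eq (by decide +kernel)

theorem y0_eq : y0 = hw (dw ++ (uw ++ (dw ++ iw uw))) := by
  rw [y0, d_eq, hw_append, hw_append, hw_append, hw_iw]
  group

theorem orderOf_y0 : orderOf y0 = 11 := by
  have : Fact (Nat.Prime 11) := ⟨by norm_num⟩
  refine orderOf_eq_prime ?_ ?_
  · rw [y0_eq]
    have h : ∀ w : List ℕ, hw w ^ 11 = hw (w ++ (w ++ (w ++ (w ++ (w ++ (w ++ (w ++ (w ++ (w ++ (w ++ w)))))))))) := by
      intro w
      simp only [hw_append, pow_succ, pow_zero, one_mul, mul_assoc]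
    rw [h, ← hw_nil]
    exact hw_eq (by decide +kernel)
  · intro h
    rw [y0_eq, ← hw_nil] at h
    have := eqw_of_hw_eq (by decide +kernel) (by decide +kernel) h
    revert this
    decide +kernel

theorem d_y0 : Syl.d * y0 * Syl.d⁻¹ = y0⁻¹ := by
  have hdi : Syl.d⁻¹ = Syl.d := inv_eq_of_mul_eq_one_left dd
  rw [y0, mul_inv_rev, mul_inv_rev, mul_inv_rev, inv_inv, hdi]
  calc Syl.d * (Syl.d * (hw uw * Syl.d * (hw uw)⁻¹)) * Syl.d
      = (Syl.d * Syl.d) * (hw uw * Syl.d * (hw uw)⁻¹) * Syl.d := by group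
    _ = _ := by rw [dd]; group

theorem isConj_d : IsConj (NormalH.ψ Syl.d) XWords.W0 := by
  have h2 : orderOf (NormalH.ψ Syl.d) = 2 := by
    rw [orderOf_injective _ emb.inj]
    refine orderOf_eq_prime (by rw [pow_two]; exact dd) ?_
    intro h
    rw [d_eq, ← hw_nil] at h
    have := eqw_of_hw_eq (by decide +kernel) (by decide +kernel) h
    revert this
    decide +kernel
  rcases KFacts.HN.Classes.inv_class h2 with h | h
  · exact absurd h.symm KFacts.HN.hd
  · exact h

end Cfsg.Agent.H748.SK.HNRow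
end

private theorem dce_8703bc84dd4f : _root_.True := by
  try have : _root_.True := by simp only [_root_.Cfsg.Agent.H748.SK.HNRow.y0.eq_1]
  try have : _root_.True := by simp only [_root_.Cfsg.Agent.H748.SK.HNRow.z.eq_1]
  exact _root_.True.intro
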